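import Mathlib.AlgebraicGeometry.Stalk
import Mathlib.RingTheory.Valuation.ValuationSubring

/-!
# Morphisms out of the spectrum of a local ring
-/

set_option autoImplicit false

universe u

open CategoryTheory AlgebraicGeometry IsLocalRing

namespace Groth.Agent.ValGlue

variable {X : Scheme.{u}} {R : Type u} [CommRing R] [IsLocalRing R]

theorem exists_stalk_map (φ : Spec (.of R) ⟶ X) {x : X} (hx : φ (closedPoint R) = x) :
    ∃ a : X.presheaf.stalk x ⟶ .of R, IsLocalHom a.hom ∧ Spec.map a ≫ X.fromSpecStalk x = φ := by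
  subst hx
  exact ⟨Scheme.stalkClosedPointTo φ, inferInstance, Scheme.Spec_stalkClosedPointTo_fromSpecStalk φ⟩

theorem closedPoint_image {x : X} (a : X.presheaf.stalk x ⟶ .of R) [IsLocalHom a.hom] :
    (Spec.map a ≫ X.fromSpecStalk x) (closedPoint R) = x := by
  rw [Scheme.Hom.comp_apply]
  have : Spec.map a (closedPoint R) = closedPoint _ := comap_closedPoint a.hom
  rw [this, Scheme.fromSpecStalk_closedPoint]

/-- Two morphisms with the same closed point that agree over an injection are equal. -/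
theorem hom_ext {S : Type u} [CommRing S] {j : R →+* S} (hj : Function.Injective j)
    (φ₁ φ₂ : Spec (.of R) ⟶ X) (hp : φ₁ (closedPoint R) = φ₂ (closedPoint R))
    (h : Spec.map (CommRingCat.ofHom j) ≫ φ₁ = Spec.map (CommRingCat.ofHom j) ≫ φ₂) : φ₁ = φ₂ := by
  obtain ⟨a, -, ha⟩ := exists_stalk_map φ₁ rfl
  obtain ⟨b, -, hb⟩ := exists_stalk_map φ₂ hp.symm
  rw [← ha, ← hb, ← Spec.map_comp_assoc, ← Spec.map_comp_assoc, cancel_mono] at h
  have := Spec.map_injective h
  rw [← ha, ← hb, CommRingCat.hom_ext (RingHom.ext fun z => hj congr($this z)) (f := a) (g := b)]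

/-- A morphism on a field with a point generising `x` comes from the local ring at `x`. -/
theorem exists_stalk_map_of_specializes {K : Type u} [Field K] (ψ : Spec (.of K) ⟶ X) {x : X}
    (h : ψ (closedPoint K) ⤳ x) :
    ∃ b : X.presheaf.stalk x ⟶ .of K, Spec.map b ≫ X.fromSpecStalk x = ψ := by
  obtain ⟨c, -, hc⟩ := exists_stalk_map ψ rfl
  refine ⟨X.presheaf.stalkSpecializes h ≫ c, ?_⟩
  rw [Spec.map_comp, Category.assoc, Scheme.SpecMap_stalkSpecializes_fromSpecStalk, hc]

theorem isLocalHom_comap {K L : Type u} [Field K] [Field L] (A : ValuationSubring K) (g : L →+* K)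
    (ρ : ↥(A.comap g) →+* ↥A) (hρ : ∀ x, ((ρ x : A) : K) = g x) : IsLocalHom ρ := by
  refine ⟨fun x hx => ?_⟩
  obtain ⟨c, hc⟩ := isUnit_iff_exists_inv.1 hx
  have h1 : g (x : L) * (c : K) = 1 := by rw [← hρ]; exact congrArg Subtype.val hc
  have hx0 : (x : L) ≠ 0 := fun h => by rw [h, map_zero, zero_mul] at h1; exact zero_ne_one h1
  refine IsUnit.of_mul_eq_one ⟨(x : L)⁻¹, ?_⟩ (Subtype.ext (mul_inv_cancel₀ hx0))
  show g (x : L)⁻¹ ∈ A
  rw [map_inv₀, inv_eq_of_mul_eq_one_right h1]
  exact c.2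

/-- Elements of the maximal ideal of a coarsening lie in the finer valuation ring. -/
theorem mem_of_residue_eq_zero {K : Type u} [Field K] {A B : ValuationSubring K} (h : A ≤ B) (z : B)
    (hz : residue B z = 0) : (z : K) ∈ A := by
  by_cases h0 : (z : K) = 0
  · rw [h0]; exact A.zero_mem
  refine (A.mem_or_inv_mem _).resolve_right fun hi => ?_
  exact (residue_eq_zero_iff z).1 hz
      (IsUnit.of_mul_eq_one ⟨(z : K)⁻¹, h hi⟩ (Subtype.ext (mul_inv_cancel₀ h0)))

end Groth.Agent.ValGlue
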